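import Cfsg.Agent.Fg24.SchurRing.Basic

/-!
The theorem of Schur and Wielandt on abelian regular subgroups with a cyclic Sylow subgroup.
-/

set_option autoImplicit false

namespace Cfsg.Agent.Fg24.SchurRing

variable {G Ω : Type*} [Group G] [MulAction G Ω] {C : Subgroup G} {a : Ω}

theorem transitive_on_others (hC : MulAction.IsPretransitive C Ω ∧ ∀ b : Ω, MulAction.stabilizer C b = ⊥)
    [IsMulCommutative C] [Finite C] [Nontrivial Ω] (hprim : MulAction.IsPreprimitive G Ω)
    {p q : ℕ} [hp : Fact p.Prime] (hq : q.Prime) (hqp : q ≠ p) (hpn : p ∣ Nat.card C)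
    (hqn : q ∣ Nat.card C) (hker : Nat.card {x : C // x ^ p = 1} ≤ p) (x y : C) (hx : x ≠ 1) (hy : y ≠ 1) :
    ∃ h : G, h • a = a ∧ act hC a h x = y := by
  classical
  have hC' : ∀ u v : C, u * v = v * u := fun u v => IsMulCommutative.is_comm.comm u v
  let _ : CommGroup C := { (inferInstance : Group C) with mul_comm := hC' }
  let orb : C → Set C := fun k => {z | ∃ h : G, h • a = a ∧ act hC a h k = z}
  have hfixed : ∀ k, FixedSet hC a (orb k) := fixedSet_orbit hC
  have hself : ∀ k, k ∈ orb k := fun k =>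
    ⟨1, one_smul _ _, smul_left_injective' hC (a := a) (by
      show act hC a 1 k • a = k • a
      rw [act_spec, one_smul])⟩
  have hone : ∀ k, k ≠ 1 → (1 : C) ∉ orb k := by
    rintro k hk ⟨h, hh, e⟩
    exact hk (act_injective hC h (e.trans (act_one hC hh).symm))
  have hsymm : ∀ k l, l ∈ orb k → orb l = orb k := by
    rintro k l ⟨h, hh, rfl⟩
    ext z
    constructor
    · rintro ⟨g, hg, rfl⟩
      exact (hfixed k) g hg _ ⟨h, hh, rfl⟩
    · intro hz
      obtain ⟨g, hg, rfl⟩ := hz
      have e : act hC a h⁻¹ (act hC a h k) = k := smul_left_injective' hC (a := a)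
        (show act hC a h⁻¹ (act hC a h k) • a = k • a by rw [act_spec, act_spec, inv_smul_smul])
      have hk : k ∈ orb (act hC a h k) := ⟨h⁻¹, inv_smul_eq_iff.2 hh.symm, e⟩
      exact (hfixed _) g hg k hk
  obtain ⟨z₀, hz₀⟩ := exists_prime_orderOf_dvd_card' p hpn
  obtain ⟨w, hw⟩ := @exists_prime_orderOf_dvd_card' C _ _ q ⟨hq⟩ hqn
  have hz1 : z₀ ≠ 1 := fun h => by rw [h, orderOf_one] at hz₀; exact hp.out.ne_one hz₀.symm
  have hw1 : w ≠ 1 := fun h => by rw [h, orderOf_one] at hw; exact hq.ne_one hw.symm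
  have hzp : z₀ ^ p = 1 := by rw [← hz₀]; exact pow_orderOf_eq_one z₀
  have hP : ∀ z : C, z ^ p = 1 → ∃ i : ℕ, i < p ∧ z₀ ^ i = z := by
    intro z hz
    have hb : Function.Bijective (fun i : Fin p =>
        (⟨z₀ ^ (i : ℕ), by rw [← pow_mul, mul_comm, pow_mul, hzp, one_pow]⟩ :
          {x : C // x ^ p = 1})) := by
      have hinj : Function.Injective (fun i : Fin p =>
          (⟨z₀ ^ (i : ℕ), by rw [← pow_mul, mul_comm, pow_mul, hzp, one_pow]⟩ :
            {x : C // x ^ p = 1})) := fun i j e => Fin.ext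
        (pow_injOn_Iio_orderOf (by rw [hz₀]; exact i.2) (by rw [hz₀]; exact j.2)
          (congrArg Subtype.val e : z₀ ^ (i : ℕ) = z₀ ^ (j : ℕ)))
      exact (Nat.bijective_iff_injective_and_card _).2 ⟨hinj, le_antisymm
        (Nat.card_le_card_of_injective _ hinj) (by rw [Nat.card_fin]; exact hker)⟩
    obtain ⟨i, hi⟩ := hb.2 ⟨z, hz⟩
    exact ⟨i, i.2, congrArg Subtype.val hi⟩
  -- outside the subgroup of order `p` every basic set is a union of cosets
  have hcoset : ∀ k, k ≠ 1 → ∀ t ∈ orb k, t ^ p ≠ 1 → ∀ z : C, z ^ p = 1 → t * z ∈ orb k := by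
    intro k hk t ht htp z hz
    set T := orb k
    have hY := (hfixed k).pow_prime hC (p := p)
    have hsub : ∀ u ∈ {y : C | ¬ p ∣ Nat.card {t : C // t ∈ T ∧ t ^ p = y}}, ∃ v, v ^ p = u := by
      intro u hu
      by_contra hno
      have : IsEmpty {t : C // t ∈ T ∧ t ^ p = u} := ⟨fun v => hno ⟨v.1, v.2.2⟩⟩
      exact hu (by rw [Nat.card_of_isEmpty]; exact dvd_zero _)
    have hbot : Subgroup.closure {y : C | ¬ p ∣ Nat.card {t : C // t ∈ T ∧ t ^ p = y}} = ⊥ := by
      refine (closure_trivial hC hprim hY).resolve_right fun htop => ?_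
      have hle : (⊤ : Subgroup C) ≤ (powMonoidHom p : C →* C).range := by
        rw [← htop, Subgroup.closure_le]
        intro u hu
        obtain ⟨v, hv⟩ := hsub u hu
        exact ⟨v, hv⟩
      have hsurj : Function.Surjective (powMonoidHom p : C →* C) :=
        fun u => hle (Subgroup.mem_top u)
      have := (Finite.injective_iff_surjective.2 hsurj) (show z₀ ^ p = (1 : C) ^ p by
        rw [one_pow, ← hz₀, pow_orderOf_eq_one])
      exact hz1 this
    have hd : p ∣ Nat.card {u : C // u ∈ T ∧ u ^ p = t ^ p} := by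
      by_contra hnd
      exact htp ((Subgroup.eq_bot_iff_forall _).1 hbot _ (Subgroup.subset_closure hnd))
    have hne : Nonempty {u : C // u ∈ T ∧ u ^ p = t ^ p} := ⟨⟨t, ht, rfl⟩⟩
    have hle := Nat.le_of_dvd Nat.card_pos hd
    have hinj : Function.Injective fun u : {u : C // u ∈ T ∧ u ^ p = t ^ p} =>
        (⟨t⁻¹ * u.1, by rw [mul_pow, inv_pow, u.2.2, inv_mul_cancel]⟩ : {x : C // x ^ p = 1}) :=
      fun u v e => Subtype.ext (mul_left_cancel (congrArg Subtype.val e : t⁻¹ * u.1 = t⁻¹ * v.1))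
    have hb : Function.Bijective _ := (Nat.bijective_iff_injective_and_card _).2
      ⟨hinj, le_antisymm (Nat.card_le_card_of_injective _ hinj) (hker.trans hle)⟩
    obtain ⟨⟨u, hu, hu2⟩, hue⟩ := hb.2 ⟨z, hz⟩
    have hue' : t⁻¹ * u = z := congrArg Subtype.val hue
    rwa [← hue', mul_inv_cancel_left]
  -- every basic set meets the subgroup of order `p`
  have hmeet : ∀ k, k ≠ 1 → ∃ z ∈ orb k, z ^ p = 1 := by
    intro k hk
    by_contra! hno
    let L : Subgroup C :=
      { carrier := {g | ∀ t ∈ orb k, g * t ∈ orb k}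
        one_mem' := fun t ht => by rwa [one_mul]
        mul_mem' := fun {u v} hu hv t ht => by rw [mul_assoc]; exact hu _ (hv t ht)
        inv_mem' := by
          intro g hg t ht
          have hinj : Function.Injective fun u : orb k => (⟨g * u, hg u u.2⟩ : orb k) :=
            fun u v e => Subtype.ext (mul_left_cancel (congrArg Subtype.val e : g * (u : C) = g * v))
          obtain ⟨⟨u, hu⟩, hue⟩ := Finite.injective_iff_surjective.1 hinj ⟨t, ht⟩
          have hue' : g * u = t := congrArg Subtype.val hue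
          rw [← hue', inv_mul_cancel_left]
          exact hu }
    have hzL : z₀ ∈ L := fun t ht => by
      rw [hC']; exact hcoset k hk t ht (hno t ht) z₀ (by rw [← hz₀, pow_orderOf_eq_one])
    rcases fixed_subgroup_trivial hC hprim L ((hfixed k).translations hC) with h | h
    · exact hz1 ((Subgroup.eq_bot_iff_forall _).1 h _ hzL)
    · have hm : k⁻¹ ∈ L := h ▸ Subgroup.mem_top _
      have := hm k (hself k)
      rw [inv_mul_cancel] at this
      exact hone k hk this
  -- the basic set of `w` contains every element of order `p`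
  have hwp : w ^ p ≠ 1 := fun h => by
    have := orderOf_dvd_of_pow_eq_one h
    rw [hw, Nat.prime_dvd_prime_iff_eq hq hp.out] at this
    exact hqp this
  obtain ⟨e₀, he₀, he₀p⟩ := hmeet w hw1
  have hall : ∀ z : C, z ^ p = 1 → z ≠ 1 → z ∈ orb w := by
    intro z hz hz'
    obtain ⟨i, hi, hie⟩ := hP e₀ he₀p
    obtain ⟨j, hj, hje⟩ := hP z hz
    have hi0 : ¬ p ∣ i := fun h => by
      rw [Nat.eq_zero_of_dvd_of_lt h hi, pow_zero] at hie
      exact hone w hw1 (hie ▸ he₀)
    have hj0 : ¬ p ∣ j := fun h => by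
      rw [Nat.eq_zero_of_dvd_of_lt h hj, pow_zero] at hje
      exact hz' hje.symm
    -- a multiplier moving `e₀` to `z` and fixing `w`
    obtain ⟨r, hr⟩ : ∃ r : ℕ, (i * r) % p = j := by
      have hu : (i : ZMod p) ≠ 0 := by rwa [Ne, CharP.cast_eq_zero_iff (ZMod p) p]
      refine ⟨((i : ZMod p)⁻¹ * j).val, ?_⟩
      have h : ((i * ((i : ZMod p)⁻¹ * j).val : ℕ) : ZMod p) = (j : ZMod p) := by
        rw [Nat.cast_mul, ZMod.natCast_zmod_val, mul_inv_cancel_left₀ hu]
      rw [ZMod.natCast_eq_natCast_iff'] at h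
      rw [h, Nat.mod_eq_of_lt hj]
    have hn0 := Nat.card_pos (α := C)
    set n := Nat.card C
    have hn' : ¬ p ∣ n / p ^ n.factorization p := Nat.not_dvd_ordCompl hp.out hn0.ne'
    set n' := n / p ^ n.factorization p
    have hcop : (p ^ n.factorization p).Coprime n' :=
      Nat.Coprime.pow_left _ ((Nat.Prime.coprime_iff_not_dvd hp.out).2 hn')
    obtain ⟨m, hm1, hm2⟩ := Nat.chineseRemainder hcop r 1
    have hsplit : n = p ^ n.factorization p * n' := (Nat.ordProj_mul_ordCompl_eq_self n p).symm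
    have hpa : p ∣ p ^ n.factorization p :=
      dvd_pow_self p (Nat.Prime.factorization_pos_of_dvd hp.out hn0.ne' hpn).ne'
    have hmp : m % p = r % p := hm1.of_dvd hpa
    have hm : m.Coprime n := by
      rw [hsplit, Nat.coprime_mul_iff_right]
      refine ⟨Nat.Coprime.pow_right _ ((Nat.Prime.coprime_iff_not_dvd hp.out).2 fun h => ?_).symm, ?_⟩
      · apply hj0
        have : p ∣ r := Nat.dvd_of_mod_eq_zero (by rw [← hmp]; exact Nat.mod_eq_zero_of_dvd h)
        rw [← hr, Nat.mod_eq_zero_of_dvd (dvd_mul_of_dvd_right this i)]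
        exact dvd_zero p
      · rw [Nat.Coprime, Nat.gcd_comm, Nat.gcd_rec, hm2, ← Nat.gcd_rec, Nat.gcd_one_right]
    have hqn' : q ∣ n' := by
      have h := hqn
      rw [hsplit] at h
      exact ((Nat.Coprime.pow_right _ ((Nat.coprime_primes hq hp.out).2 hqp)).dvd_of_dvd_mul_left h)
    have hwm : w ^ m = w := by
      rw [← pow_mod_orderOf, hw, hm2.of_dvd hqn', Nat.mod_eq_of_lt hq.one_lt, pow_one]
    have hem : e₀ ^ m = z := by
      rw [← hie, ← pow_mul, ← pow_mod_orderOf, hz₀, Nat.mul_mod, hmp, ← Nat.mul_mod, hr, hje]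
    have himg := (hfixed w).pow_coprime hC (orb w) m hm
    have hsub : orb w ⊆ (fun t => t ^ m) '' orb w := by
      rintro u ⟨h, hh, rfl⟩
      exact himg h hh w ⟨w, hself w, hwm⟩
    have heq : (fun t => t ^ m) '' orb w = orb w :=
      (Set.eq_of_subset_of_ncard_le hsub (Set.ncard_image_le (Set.toFinite _))).symm
    rw [← heq]
    exact ⟨e₀, he₀, hem⟩
  -- hence there is only one basic set
  have hu : ∀ k, k ≠ 1 → orb k = orb w := by
    intro k hk
    obtain ⟨z, hz, hzp⟩ := hmeet k hk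
    have hzw := hall z hzp (fun h => hone k hk (h ▸ hz))
    rw [← hsymm k z hz, ← hsymm w z hzw]
  have : y ∈ orb x := by rw [hu x hx, ← hu y hy]; exact hself y
  exact this

theorem isMultiplyPretransitive_two [FaithfulSMul G Ω]
    (hC : MulAction.IsPretransitive C Ω ∧ ∀ b : Ω, MulAction.stabilizer C b = ⊥)
    [IsMulCommutative C] [Finite C] [Nontrivial Ω] (hprim : MulAction.IsPreprimitive G Ω)
    {p q : ℕ} [Fact p.Prime] (hq : q.Prime) (hqp : q ≠ p) (hpn : p ∣ Nat.card C)
    (hqn : q ∣ Nat.card C) (hker : Nat.card {x : C // x ^ p = 1} ≤ p) :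
    MulAction.IsMultiplyPretransitive G Ω 2 := by
  rw [MulAction.is_two_pretransitive_iff]
  intro u v c d huv hcd
  obtain ⟨k, hk⟩ := hC.1.exists_smul_eq u c
  obtain ⟨x, hx⟩ := hC.1.exists_smul_eq c ((k : G) • v)
  obtain ⟨y, hy⟩ := hC.1.exists_smul_eq c d
  have hk' : (k : G) • u = c := hk
  have hx1 : x ≠ 1 := fun h => huv (by
    rw [h, one_smul, ← hk'] at hx
    exact MulAction.injective (k : G) hx)
  have hy1 : y ≠ 1 := fun h => hcd (by rw [h, one_smul] at hy; exact hy)
  obtain ⟨h, hh, he⟩ := transitive_on_others (a := c) hC hprim hq hqp hpn hqn hker x y hx1 hy1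
  refine ⟨h * (k : G), by rw [mul_smul, hk', hh], ?_⟩
  rw [mul_smul, ← hx, ← act_spec hC h x, he]
  exact hy

end Cfsg.Agent.Fg24.SchurRing
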