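import Mathlib

/-!
Schur rings of permutation groups with an abelian regular subgroup.
-/

set_option autoImplicit false

namespace Cfsg.Agent.Fg24.SchurRing

open MonoidAlgebra

variable {G Ω : Type*} [Group G] [MulAction G Ω] {C : Subgroup G} {a : Ω}

/-- The bijection between a regular subgroup and the points. -/
noncomputable def point (hC : MulAction.IsPretransitive C Ω ∧ ∀ b : Ω, MulAction.stabilizer C b = ⊥)
    (a : Ω) : C ≃ Ω :=
  Equiv.ofBijective (fun k : C => k • a) ⟨fun x y hxy => by
    have h : x⁻¹ * y ∈ MulAction.stabilizer C a := by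
      rw [MulAction.mem_stabilizer_iff, mul_smul, ← (show x • a = y • a from hxy), inv_smul_smul]
    rw [hC.2 a, Subgroup.mem_bot, inv_mul_eq_one] at h
    exact h, fun b => hC.1.exists_smul_eq a b⟩

variable (hC : MulAction.IsPretransitive C Ω ∧ ∀ b : Ω, MulAction.stabilizer C b = ⊥)

/-- The action of the stabilizer of `a` carried to the regular subgroup. -/
noncomputable def act (a : Ω) (h : G) (k : C) : C := (point hC a).symm (h • (k • a))

theorem act_spec (h : G) (k : C) : act hC a h k • a = h • (k • a) :=
  (point hC a).apply_symm_apply _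

theorem act_injective (h : G) : Function.Injective (act hC a h) := fun _ _ e =>
  (point hC a).injective (MulAction.injective h ((point hC a).symm.injective e))

include hC in
theorem smul_left_injective' : Function.Injective fun k : C => k • a := (point hC a).injective

theorem act_one {h : G} (hh : h • a = a) : act hC a h 1 = 1 :=
  smul_left_injective' hC (show act hC a h 1 • a = (1 : C) • a by rw [act_spec, one_smul, hh])

theorem act_mul {h : G} (t u : C) :
    ∃ h' : G, h' • a = a ∧ act hC a h (t * u) = act hC a h t * act hC a h' u := by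
  refine ⟨((act hC a h t : C) : G)⁻¹ * h * (t : G), ?_, smul_left_injective' hC (a := a) ?_⟩
  · rw [mul_smul, mul_smul, inv_smul_eq_iff]
    exact (act_spec hC h t).symm
  · show act hC a h (t * u) • a = (act hC a h t * act hC a _ u) • a
    rw [mul_smul _ (act hC a _ u) a, act_spec, act_spec]
    simp only [Subgroup.smul_def, Subgroup.coe_mul, ← mul_smul]
    congr 1
    group

/-- An element of the group algebra fixed by the stabilizer. -/
def Fixed (a : Ω) {R : Type*} [Semiring R] (x : MonoidAlgebra R C) : Prop :=
  ∀ h : G, h • a = a → ∀ k : C, x.coeff (act hC a h k) = x.coeff k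

/-- A set fixed by the stabilizer. -/
def FixedSet (a : Ω) (T : Set C) : Prop := ∀ h : G, h • a = a → ∀ k : C, k ∈ T → act hC a h k ∈ T

theorem FixedSet.mem_iff [Finite C] {T : Set C} (hT : FixedSet hC a T) {h : G} (hh : h • a = a)
    (k : C) : act hC a h k ∈ T ↔ k ∈ T := by
  refine ⟨fun hk => ?_, hT h hh k⟩
  have hinv : h⁻¹ • a = a := inv_smul_eq_iff.2 hh.symm
  have := hT h⁻¹ hinv _ hk
  have e : act hC a h⁻¹ (act hC a h k) = k := smul_left_injective' hC
    (show act hC a h⁻¹ (act hC a h k) • a = k • a by rw [act_spec, act_spec, inv_smul_smul])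
  rwa [e] at this

theorem coeff_mul_finite [Fintype C] {R : Type*} [Semiring R] (x y : MonoidAlgebra R C) (m : C) :
    (x * y).coeff m = ∑ t : C, x.coeff t * y.coeff (t⁻¹ * m) := by
  classical
  rw [coeff_mul, Finsupp.sum_fintype _ _ (by simp)]
  refine Finset.sum_congr rfl fun t _ => ?_
  rw [Finsupp.sum_fintype _ _ (by simp), Finset.sum_eq_single (t⁻¹ * m)]
  · rw [if_pos (mul_inv_cancel_left t m)]
  · exact fun b _ hb => if_neg fun e => hb (by rw [← e, inv_mul_cancel_left])
  · simp

theorem Fixed.mul [Finite C] {R : Type*} [Semiring R] {x y : MonoidAlgebra R C} (hx : Fixed hC a x)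
    (hy : Fixed hC a y) : Fixed hC a (x * y) := by
  classical
  cases nonempty_fintype C
  intro h hh k
  rw [coeff_mul_finite, coeff_mul_finite]
  refine (Fintype.sum_bijective (act hC a h)
    (Finite.injective_iff_bijective.1 (act_injective hC h))
    (fun t => x.coeff t * y.coeff (t⁻¹ * k)) _ fun t => ?_).symm
  obtain ⟨h', hh', e⟩ := act_mul hC (a := a) (h := h) t (t⁻¹ * k)
  rw [mul_inv_cancel_left] at e
  rw [hx h hh t, e, inv_mul_cancel_left, hy h' hh']

theorem Fixed.one {R : Type*} [Semiring R] : Fixed hC a (1 : MonoidAlgebra R C) := by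
  classical
  intro h hh k
  have e : act hC a h k = 1 ↔ k = 1 :=
    ⟨fun e => act_injective hC h (e.trans (act_one hC hh).symm), fun e => by rw [e, act_one hC hh]⟩
  rw [one_def, coeff_single, Finsupp.single_apply, Finsupp.single_apply]
  by_cases hk : k = 1
  · rw [if_pos hk.symm, if_pos (e.2 hk).symm]
  · rw [if_neg (Ne.symm hk), if_neg (Ne.symm fun h => hk (e.1 h))]

theorem Fixed.pow [Finite C] {R : Type*} [Semiring R] {x : MonoidAlgebra R C} (hx : Fixed hC a x) :
    ∀ n : ℕ, Fixed hC a (x ^ n)
  | 0 => by rw [pow_zero]; exact Fixed.one hC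
  | n + 1 => by rw [pow_succ]; exact (Fixed.pow hx n).mul hC hx

theorem fixedSet_orbit (k : C) : FixedSet hC a {x | ∃ h : G, h • a = a ∧ act hC a h k = x} := by
  rintro h hh _ ⟨g, hg, rfl⟩
  refine ⟨h * g, by rw [mul_smul, hg, hh], smul_left_injective' hC (a := a) ?_⟩
  show act hC a (h * g) k • a = act hC a h (act hC a g k) • a
  rw [act_spec, act_spec, act_spec, mul_smul]

section Abelian

variable [IsMulCommutative C] [Finite C]

/-- The multiset of `p`-th powers of a fixed set, read modulo `p`. -/
theorem FixedSet.pow_prime {p : ℕ} [hp : Fact p.Prime] {T : Set C} (hT : FixedSet hC a T) :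
    FixedSet hC a {y | ¬ p ∣ Nat.card {t : C // t ∈ T ∧ t ^ p = y}} := by
  classical
  cases nonempty_fintype C
  let _ : CommGroup C :=
    { (inferInstance : Group C) with mul_comm := fun x y => IsMulCommutative.is_comm.comm x y }
  let s : Finset C := Finset.univ.filter fun t => t ∈ T
  let x : MonoidAlgebra (ZMod p) C := ∑ t ∈ s, single t 1
  have hx : ∀ m, x.coeff m = if m ∈ T then 1 else 0 := fun m => by
    simp [x, s, coeff_sum, Finsupp.single_apply]
  have hfix : Fixed hC a x := fun h hh k => by simp only [hx, hT.mem_iff hC hh]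
  have : CharP (MonoidAlgebra (ZMod p) C) p :=
    charP_of_injective_algebraMap (algebraMap (ZMod p) (MonoidAlgebra (ZMod p) C)).injective p
  have hpow : ∀ m, (x ^ p).coeff m = (Nat.card {t : C // t ∈ T ∧ t ^ p = m} : ZMod p) := fun m => by
    rw [sum_pow_char]
    simp only [single_pow, one_pow, coeff_sum, coeff_single, Finsupp.finsetSum_apply,
      Finsupp.single_apply]
    rw [Finset.sum_boole, Nat.card_eq_fintype_card, Fintype.card_subtype, Finset.filter_filter]
  intro h hh k hk
  have := hfix.pow hC p h hh k
  rw [hpow, hpow] at this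
  intro hd
  apply hk
  rw [← CharP.cast_eq_zero_iff (ZMod p) p] at hd ⊢
  rw [← this, hd]

/-- A fixed set is moved to a fixed set by powers prime to the group order. -/
theorem FixedSet.pow_coprime (T : Set C) (hT : FixedSet hC a T) (m : ℕ) (hm : m.Coprime (Nat.card C)) :
    FixedSet hC a ((fun t => t ^ m) '' T) := by
  classical
  cases nonempty_fintype C
  induction m using Nat.recOnMul generalizing T with
  | zero =>
    have h1 : Nat.card C = 1 := Nat.coprime_zero_left _ |>.1 hm
    have : Subsingleton C := (Nat.card_eq_one_iff_unique.1 h1).1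
    rintro h hh _ ⟨t, ht, rfl⟩
    exact ⟨t, ht, Subsingleton.elim _ _⟩
  | one => simpa using hT
  | prime p hp =>
    have := Fact.mk hp
    have hinj : Function.Injective fun t : C => t ^ p := (powCoprime hm.symm).injective
    have e : ((fun t : C => t ^ p) '' T) = {y | ¬ p ∣ Nat.card {t : C // t ∈ T ∧ t ^ p = y}} := by
      ext y
      constructor
      · rintro ⟨t, ht, rfl⟩
        have : Subsingleton {s : C // s ∈ T ∧ s ^ p = t ^ p} :=
          ⟨fun u v => Subtype.ext (hinj (u.2.2.trans v.2.2.symm))⟩
        have hne : Nonempty {s : C // s ∈ T ∧ s ^ p = t ^ p} := ⟨⟨t, ht, rfl⟩⟩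
        show ¬ p ∣ _
        rw [Nat.card_eq_one_iff_unique.2 ⟨this, hne⟩, Nat.dvd_one]
        exact hp.ne_one
      · intro hy
        rcases isEmpty_or_nonempty {t : C // t ∈ T ∧ t ^ p = y} with hem | ⟨⟨t, ht, hty⟩⟩
        · exact absurd (by simp) hy
        · exact ⟨t, ht, hty⟩
    rw [e]
    exact hT.pow_prime hC
  | mul u v hu hv =>
    have h1 := Nat.Coprime.coprime_mul_right hm
    have h2 := Nat.Coprime.coprime_mul_left hm
    have := hv _ (hu T hT h1) h2
    rw [Set.image_image] at this
    simpa only [pow_mul] using this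

/-- The subgroup generated by a fixed set is fixed. -/
theorem FixedSet.closure {T : Set C} (hT : FixedSet hC a T) :
    FixedSet hC a (Subgroup.closure T : Set C) := by
  intro h hh k hk
  rw [SetLike.mem_coe, ← Subgroup.mem_toSubmonoid, Subgroup.closure_toSubmonoid_of_finite] at hk ⊢
  induction hk using Submonoid.closure_induction_left generalizing h with
  | one => rw [act_one hC hh]; exact one_mem _
  | mul_left t ht y _ ih =>
    obtain ⟨h', hh', e⟩ := act_mul hC (a := a) (h := h) t y
    rw [e]
    exact mul_mem (Submonoid.subset_closure (hT h hh t ht)) (ih h' hh')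

variable [Nontrivial Ω]

omit [IsMulCommutative C] [Finite C] in
/-- In a primitive group only the trivial subgroups are fixed. -/
theorem fixed_subgroup_trivial (hprim : MulAction.IsPreprimitive G Ω) (L : Subgroup C)
    (hL : FixedSet hC a (L : Set C)) : L = ⊥ ∨ L = ⊤ := by
  have hco := MulAction.IsPreprimitive.isCoatom_stabilizer_of_isPreprimitive (G := G) a
  let M : Subgroup G :=
    { carrier := {g | (point hC a).symm (g • a) ∈ L}
      one_mem' := by
        show (point hC a).symm ((1 : G) • a) ∈ L
        have e : (point hC a) 1 = (1 : G) • a := show (1 : C) • a = _ by simp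
        rw [← e, Equiv.symm_apply_apply]; exact one_mem _
      mul_mem' := by
        intro g g' hg hg'
        show (point hC a).symm ((g * g') • a) ∈ L
        change (point hC a).symm (g • a) ∈ L at hg
        change (point hC a).symm (g' • a) ∈ L at hg'
        set k := (point hC a).symm (g • a)
        set k' := (point hC a).symm (g' • a)
        have hk : k • a = g • a := (point hC a).apply_symm_apply _
        have hk' : k' • a = g' • a := (point hC a).apply_symm_apply _
        have hh : ((k : G)⁻¹ * g) • a = a := by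
          rw [mul_smul, inv_smul_eq_iff]; exact hk.symm
        have hmem := L.mul_mem hg (hL _ hh k' hg')
        have e : (g * g') • a = point hC a (k * act hC a ((k : G)⁻¹ * g) k') := by
          show _ = (k * act hC a _ k') • a
          rw [mul_smul, mul_smul, act_spec, hk', Subgroup.smul_def, mul_smul, smul_inv_smul]
        rw [e, Equiv.symm_apply_apply]
        exact hmem
      inv_mem' := by
        intro g hg
        show (point hC a).symm (g⁻¹ • a) ∈ L
        change (point hC a).symm (g • a) ∈ L at hg
        set k := (point hC a).symm (g • a)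
        have hk : k • a = g • a := (point hC a).apply_symm_apply _
        have hh : (g⁻¹ * (k : G)) • a = a := by
          rw [mul_smul, inv_smul_eq_iff]; exact hk
        have hmem := hL _ hh k⁻¹ (L.inv_mem hg)
        have e : g⁻¹ • a = point hC a (act hC a (g⁻¹ * (k : G)) k⁻¹) := by
          show _ = act hC a _ k⁻¹ • a
          rw [act_spec, Subgroup.smul_def, Subgroup.coe_inv, mul_smul, smul_inv_smul]
        rw [e, Equiv.symm_apply_apply]
        exact hmem }
  have hmem : ∀ k : C, (k : G) ∈ M ↔ k ∈ L := fun k => by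
    show (point hC a).symm (k • a) ∈ L ↔ _
    rw [show k • a = point hC a k from rfl, Equiv.symm_apply_apply]
  have hle : MulAction.stabilizer G a ≤ M := fun g hg => by
    show (point hC a).symm (g • a) ∈ L
    have e : (point hC a).symm a = 1 := (Equiv.symm_apply_eq _).2 (one_smul C a).symm
    rw [MulAction.mem_stabilizer_iff.1 hg, e]
    exact one_mem _
  rcases eq_or_lt_of_le hle with h | h
  · left
    rw [Subgroup.eq_bot_iff_forall]
    intro k hk
    have := (hmem k).2 hk
    rw [← h, MulAction.mem_stabilizer_iff] at this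
    exact smul_left_injective' hC (show k • a = (1 : C) • a by rw [one_smul]; exact this)
  · right
    rw [eq_top_iff]
    intro k _
    rw [← hmem, hco.2 M h]
    trivial

theorem closure_trivial (hprim : MulAction.IsPreprimitive G Ω) {T : Set C} (hT : FixedSet hC a T) :
    Subgroup.closure T = ⊥ ∨ Subgroup.closure T = ⊤ :=
  fixed_subgroup_trivial hC hprim _ (hT.closure hC)

/-- The translation stabilizer of a fixed set is fixed. -/
theorem FixedSet.translations {T : Set C} (hT : FixedSet hC a T) :
    FixedSet hC a {g : C | ∀ t ∈ T, g * t ∈ T} := by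
  classical
  cases nonempty_fintype C
  have hC' : ∀ u v : C, u * v = v * u := fun u v => IsMulCommutative.is_comm.comm u v
  have hinv : FixedSet hC a ((fun t => t ^ (Nat.card C - 1)) '' T) := hT.pow_coprime hC T _ (by
    have hpos := Nat.card_pos (α := C)
    exact Nat.coprime_self_sub_left (by omega) |>.2 (Nat.coprime_one_left _))
  have e1 : ∀ t : C, t ^ (Nat.card C - 1) = t⁻¹ := fun t => eq_inv_of_mul_eq_one_left (by
    rw [← pow_succ, Nat.sub_add_cancel (Nat.card_pos (α := C)), pow_card_eq_one'])
  simp only [e1] at hinv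
  let s : Finset C := Finset.univ.filter fun t => t ∈ T
  let x : MonoidAlgebra ℕ C := ∑ t ∈ s, single t 1
  let y : MonoidAlgebra ℕ C := ∑ t ∈ s, single t⁻¹ 1
  have hx : ∀ m, x.coeff m = if m ∈ T then 1 else 0 := fun m => by
    simp [x, s, coeff_sum, Finsupp.single_apply]
  have hy : ∀ m, y.coeff m = if m⁻¹ ∈ T then 1 else 0 := fun m => by
    simp [y, s, coeff_sum, Finsupp.single_apply, inv_eq_iff_eq_inv]
  have hxy : Fixed hC a (x * y) := by
    refine Fixed.mul hC (fun h hh k => by simp only [hx, hT.mem_iff hC hh]) fun h hh k => ?_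
    simp only [hy]
    have h1 := hinv.mem_iff hC hh k
    simp only [Set.mem_image, inv_eq_iff_eq_inv, exists_eq_right] at h1
    simp only [h1]
  have hval : ∀ g, (x * y).coeff g = (s.filter fun t => g⁻¹ * t ∈ T).card := fun g => by
    rw [coeff_mul_finite]
    simp only [hx, hy, mul_inv_rev, inv_inv, ite_zero_mul_ite_zero, one_mul]
    rw [Finset.sum_boole, Nat.cast_id, Finset.filter_filter]
  have hL : ∀ g, g⁻¹ ∈ {g : C | ∀ t ∈ T, g * t ∈ T} ↔ (x * y).coeff g = s.card := fun g => by
    rw [hval, Finset.card_filter_eq_iff]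
    simp [s]
  have hcl : ∀ g : C, g ∈ {g : C | ∀ t ∈ T, g * t ∈ T} ↔ g⁻¹ ∈ {g : C | ∀ t ∈ T, g * t ∈ T} := by
    have key : ∀ g : C, g ∈ {g : C | ∀ t ∈ T, g * t ∈ T} → g⁻¹ ∈ {g : C | ∀ t ∈ T, g * t ∈ T} := by
      intro g hg t ht
      have hinj : Function.Injective fun u : T => (⟨g * u, hg u u.2⟩ : T) :=
        fun u v e => Subtype.ext (mul_left_cancel (congrArg Subtype.val e : g * (u : C) = g * v))
      obtain ⟨⟨u, hu⟩, hue⟩ := Finite.injective_iff_surjective.1 hinj ⟨t, ht⟩
      have hue' : g * u = t := congrArg Subtype.val hue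
      rw [← hue', inv_mul_cancel_left]
      exact hu
    exact fun g => ⟨key g, fun h => inv_inv g ▸ key _ h⟩
  intro h hh k hk
  rw [hcl, hL] at hk ⊢
  rw [hxy h hh k, hk]

end Abelian

end Cfsg.Agent.Fg24.SchurRing
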